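import Mathlib
import Cfsg.Agent.Lib.ShortPres.Main

/-!
Six relations and one rotation relation on three elements `x, t, a` give a Carmichael system
modulo the cube of `x`, which is central of order at most two.
-/

set_option autoImplicit false
set_option linter.unusedSectionVars false

namespace Cfsg.Agent.Lib.ThreeGenPres

open Subgroup
open Cfsg.Agent.Lib.BoundedPresentation
open Cfsg.Agent.Lib.ShortPres (yv Rules Dual zpow_unit_unit cube_zpow inv_mul_inv_sq)

variable {G : Type} [Group G]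

/-- The conjugates of `x` under `a`. -/
def xc {p : ℕ} (x a : G) (i : ZMod p) : G := a ^ i.val * x * (a ^ i.val)⁻¹

/-- The element `b`, a word in the conjugates of `x` under `a`. -/
def bEl {p : ℕ} (vb : FreeGroup (ZMod p)) (x a : G) : G := FreeGroup.lift (xc x a) vb

/-- The conjugates of `x` under the negative powers of `t`. -/
def zn (f : ℤˣ) (x t : G) (k : ℕ) : G := (t⁻¹ ^ k * x * (t⁻¹ ^ k)⁻¹) ^ ((f ^ k : ℤˣ) : ℤ)

/-- A word in the last window of conjugates. -/
def winEl {p : ℕ} (m : ℕ) (f : ℤˣ) (w : FreeGroup (ZMod p)) (x t : G) : G :=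
  FreeGroup.lift (fun i : ZMod p => zn f x t ((-i).val + (m - p))) w

/-- The defect of the commutation relation between `b` and the twist. -/
def defect {p : ℕ} (vb : FreeGroup (ZMod p)) (x t a : G) : G :=
  (bEl vb x a * (a⁻¹ * t))⁻¹ * (a⁻¹ * t * bEl vb x a)

/-- The relations. -/
structure Sys (p n m e : ℕ) (f : ℤˣ) (vb w : FreeGroup (ZMod p)) (x t a : G) : Prop where
  r1 : a ^ p = 1
  r2 : bEl vb x a * a * (bEl vb x a)⁻¹ = a ^ n
  r3 : bEl vb x a * x * (bEl vb x a)⁻¹ = x⁻¹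
  r4 : (x * (a * x * a⁻¹)) ^ 2 = x ^ 3
  r5x : Commute (defect vb x t a) x
  r5a : Commute (defect vb x t a) a
  r6 : a⁻¹ * t * (a * x * a⁻¹) * (a⁻¹ * t)⁻¹ = (a * x * a⁻¹) ^ (f : ℤ)
  rw' : a ^ e * (t ^ e)⁻¹ = winEl m f w x t

section map

variable {p : ℕ} {G' : Type} [Group G'] (F : G →* G') {vb w : FreeGroup (ZMod p)} (x t a : G)

theorem map_xc (i : ZMod p) : F (xc x a i) = xc (F x) (F a) i := by
  simp only [xc, map_mul, map_inv, map_pow]

theorem map_bEl : F (bEl vb x a) = bEl vb (F x) (F a) := by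
  rw [bEl, map_lift]
  exact congrArg (fun g => FreeGroup.lift g vb) (funext fun i => map_xc F x a i)

theorem map_zn (f : ℤˣ) (k : ℕ) : F (zn f x t k) = zn f (F x) (F t) k := by
  simp only [zn, map_zpow, map_mul, map_inv, map_pow]

theorem map_winEl (m : ℕ) (f : ℤˣ) : F (winEl m f w x t) = winEl m f w (F x) (F t) := by
  rw [winEl, map_lift]
  exact congrArg (fun g => FreeGroup.lift g w) (funext fun i => map_zn F x t f _)

theorem map_defect : F (defect vb x t a) = defect vb (F x) (F t) (F a) := by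
  simp only [defect, map_mul, map_inv, map_bEl]

variable {x t a} {n m e : ℕ} {f : ℤˣ}

theorem Sys.map (h : Sys p n m e f vb w x t a) : Sys p n m e f vb w (F x) (F t) (F a) where
  r1 := by rw [← map_pow, h.r1, map_one]
  r2 := by simp only [← map_bEl, ← map_inv, ← map_mul, ← map_pow, h.r2]
  r3 := by simp only [← map_bEl, ← map_inv, ← map_mul, h.r3]
  r4 := by simp only [← map_inv, ← map_mul, ← map_pow, h.r4]
  r5x := by rw [← map_defect]; exact h.r5x.map F
  r5a := by rw [← map_defect]; exact h.r5a.map F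
  r6 := by simp only [← map_inv, ← map_mul, ← map_zpow, h.r6]
  rw' := by simp only [← map_winEl, ← map_inv, ← map_mul, ← map_pow, h.rw']

theorem Sys.of_injective (hF : Function.Injective F) (h : Sys p n m e f vb w (F x) (F t) (F a)) :
    Sys p n m e f vb w x t a where
  r1 := hF (by rw [map_pow, h.r1, map_one])
  r2 := hF (by simp only [map_mul, map_inv, map_pow, map_bEl, h.r2])
  r3 := hF (by simp only [map_mul, map_inv, map_bEl, h.r3])
  r4 := hF (by simp only [map_mul, map_inv, map_pow, h.r4])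
  r5x := Commute.of_map hF (by rw [map_defect]; exact h.r5x)
  r5a := Commute.of_map hF (by rw [map_defect]; exact h.r5a)
  r6 := hF (by simp only [map_mul, map_inv, map_zpow, h.r6])
  rw' := hF (by simp only [map_mul, map_inv, map_pow, map_winEl, h.rw'])

end map

theorem Sys.prod {p n m e : ℕ} {f : ℤˣ} {vb w : FreeGroup (ZMod p)} {G' : Type} [Group G']
    {x t a : G} {x' t' a' : G'} (h : Sys p n m e f vb w x t a) (h' : Sys p n m e f vb w x' t' a') :
    Sys p n m e f vb w ((x, x') : G × G') ((t, t') : G × G') ((a, a') : G × G') := by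
  have eb : bEl vb ((x, x') : G × G') ((a, a') : G × G') = (bEl vb x a, bEl vb x' a') :=
    Prod.ext (map_bEl (MonoidHom.fst G G') _ _) (map_bEl (MonoidHom.snd G G') _ _)
  have ew : winEl m f w ((x, x') : G × G') ((t, t') : G × G') = (winEl m f w x t, winEl m f w x' t') :=
    Prod.ext (map_winEl (MonoidHom.fst G G') _ _ m f) (map_winEl (MonoidHom.snd G G') _ _ m f)
  have ed : defect vb ((x, x') : G × G') ((t, t') : G × G') ((a, a') : G × G') =
      (defect vb x t a, defect vb x' t' a') :=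
    Prod.ext (map_defect (MonoidHom.fst G G') _ _ _) (map_defect (MonoidHom.snd G G') _ _ _)
  constructor
  · exact Prod.ext h.r1 h'.r1
  · rw [eb]; exact Prod.ext h.r2 h'.r2
  · rw [eb]; exact Prod.ext h.r3 h'.r3
  · exact Prod.ext h.r4 h'.r4
  · rw [ed]; exact h.r5x.prod h'.r5x
  · rw [ed]; exact h.r5a.prod h'.r5a
  · exact Prod.ext h.r6 h'.r6
  · rw [ew]; exact Prod.ext h.rw' h'.rw'

theorem pair_swap {a b : G} (h : (a * b) ^ 2 = 1) : (b * a) ^ 2 = 1 := by
  rw [show b * a = a⁻¹ * (a * b) * (a⁻¹)⁻¹ by group, conj_pow, h]; group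

variable {p n m e : ℕ} [Fact p.Prime] {f : ℤˣ} {x t a b : G}

/-- The cube of `x` is central of order at most two; only five of the relations are used. -/
theorem cube_central {vb : FreeGroup (ZMod p)} (hb : b = bEl vb x a) (r1 : a ^ p = 1)
    (r2 : b * a * b⁻¹ = a ^ n) (r3 : b * x * b⁻¹ = x⁻¹) (r4 : (x * (a * x * a⁻¹)) ^ 2 = x ^ 3)
    (r6 : a⁻¹ * t * (a * x * a⁻¹) * (a⁻¹ * t)⁻¹ = (a * x * a⁻¹) ^ (f : ℤ))
    (hgen : ∀ i : ZMod p, i ≠ 0 → ∃ k : ℕ, i = (n : ZMod p) ^ k) :
    (x ^ 3) ^ 2 = 1 ∧ Commute a (x ^ 3) ∧ Commute t (x ^ 3) := by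
  set z := x ^ 3 with hz
  let A : ZMod p → G := fun i => a ^ i.val
  have hAc : ∀ k : ℕ, A (k : ZMod p) = a ^ k := fun k => by
    show a ^ (k : ZMod p).val = a ^ k
    rw [ZMod.val_natCast, ← pow_eq_pow_mod k r1]
  have hA : ∀ i j, A (i + j) = A i * A j := fun i j => by
    show a ^ (i + j).val = a ^ i.val * a ^ j.val
    rw [ZMod.val_add, ← pow_eq_pow_mod _ r1, pow_add]
  have hA0 : A 0 = 1 := by simpa using hAc 0
  have hA1 : A 1 = a := by simpa using hAc 1
  let X : ZMod p → G := fun i => A i * x * (A i)⁻¹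
  have hX0 : X 0 = x := by simp [X, hA0]
  have hX1 : X 1 = a * x * a⁻¹ := by simp [X, hA1]
  have hXa : ∀ i j, A i * X j * (A i)⁻¹ = X (i + j) := fun i j => by
    simp only [X, hA]; group
  have hbA : ∀ i, b * A i * b⁻¹ = A ((n : ZMod p) * i) := fun i => by
    rw [← ZMod.natCast_zmod_val i, ← Nat.cast_mul, hAc, hAc, ← conj_pow, r2, pow_mul]
  have hbX : ∀ i, b * X i * b⁻¹ = (X ((n : ZMod p) * i))⁻¹ := fun i => by
    simp only [X]
    rw [← hbA, show b * (A i * x * (A i)⁻¹) * b⁻¹ =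
      (b * A i * b⁻¹) * (b * x * b⁻¹) * (b * A i * b⁻¹)⁻¹ by group, r3]
    group
  have hbz : b * z * b⁻¹ = z⁻¹ := by rw [hz, ← conj_pow, r3, inv_pow]
  have hstar : ∀ i : ZMod p, i ≠ 0 → Dual z (X 0) (X i) := by
    have step : ∀ k : ℕ, Dual z (X 0) (X ((n : ZMod p) ^ k)) := by
      intro k
      induction k with
      | zero =>
        rw [pow_zero, hX0, hX1]
        refine ⟨r4, ?_⟩
        rw [show a * x * a⁻¹ * x = x⁻¹ * (x * (a * x * a⁻¹)) * (x⁻¹)⁻¹ by group, conj_pow, r4]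
        rw [hz]; group
      | succ k ih =>
        have := ih.conj b
        rw [hbz, hbX, hbX, mul_zero] at this
        rw [pow_succ']
        obtain ⟨h1, h2⟩ := this
        rw [inv_mul_inv_sq, inv_inj] at h1 h2
        exact ⟨h2, h1⟩
    intro i hi
    obtain ⟨k, rfl⟩ := hgen i hi
    exact step k
  have hshifted : ∀ i j : ZMod p, i ≠ j → Dual (X i ^ 3) (X i) (X j) := by
    intro i j hij
    have := (hstar (j - i) (sub_ne_zero.2 hij.symm)).conj (A i)
    rwa [hXa, hXa, add_zero, add_sub_cancel, hz, ← conj_pow,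
      show A i * x * (A i)⁻¹ = X i from rfl] at this
  have hXcube : ∀ i, X i ^ 3 = z := by
    intro i
    rcases eq_or_ne i 0 with rfl | hi
    · rw [hX0]
    · rw [hz, ← hX0, ← (hshifted i 0 hi).1, ← (hshifted 0 i hi.symm).2]
  have haz : a * z * a⁻¹ = z := by rw [hz, ← conj_pow, ← hX1, hXcube]
  have hbz' : Commute b z := by
    have : b ∈ centralizer ({z} : Set G) := by
      have hle : (FreeGroup.lift (xc (p := p) x a)).range ≤ centralizer ({z} : Set G) := by
        rw [FreeGroup.range_lift_eq_closure, closure_le]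
        rintro _ ⟨i, rfl⟩
        rw [SetLike.mem_coe, mem_centralizer_singleton_iff, ← hXcube i]
        exact ((Commute.refl _).pow_right 3).eq
      exact hb ▸ hle ⟨vb, rfl⟩
    exact mem_centralizer_singleton_iff.1 this
  have hzi : z⁻¹ = z := by rw [← hbz, hbz'.eq, mul_inv_cancel_right]
  refine ⟨by rw [pow_two]; nth_rewrite 1 [← hzi]; exact inv_mul_cancel z, mul_inv_eq_iff_eq_mul.1 haz, ?_⟩
  show t * z = z * t
  refine mul_inv_eq_iff_eq_mul.1 ?_
  calc t * z * t⁻¹ = a * (a⁻¹ * t * X 1 * (a⁻¹ * t)⁻¹) ^ 3 * a⁻¹ := by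
        rw [conj_pow, hXcube]; group
    _ = z := by
        rw [hX1, r6, cube_zpow, ← hX1, hXcube]
        rcases Int.units_eq_one_or f with rfl | rfl <;> simp [hzi, haz]

/-- When the cube of `x` is trivial the rules of a Carmichael system follow. -/
theorem rules {vb w : FreeGroup (ZMod p)} [NeZero m] (h : Sys p n m e f vb w x t a) (hx : x ^ 3 = 1)
    (hgen : ∀ i : ZMod p, i ≠ 0 → ∃ k : ℕ, i = (n : ZMod p) ^ k) (hp2 : p ≠ 2)
    (hpm : p ≤ m) (he : 1 ≤ e) (hep : e < p) (hmp : m + e ≤ 2 * p)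
    (hw : FreeGroup.lift (cyc : ZMod p → Alt2 (ZMod p)) w * cyc (-((p - e : ℕ) : ZMod p)) *
        (FreeGroup.lift (cyc : ZMod p → Alt2 (ZMod p)) w)⁻¹ =
      cyc (-((2 * p - e - m : ℕ) : ZMod p)) ^ ((f ^ e : ℤˣ) : ℤ)) :
    Rules m f x t ∧ a ∈ closure (Set.range (yv (m := m) f x t)) ∧
      t ^ e ∈ closure (Set.range (yv (m := m) f x t)) := by
  have hp : p.Prime := Fact.out
  set b := bEl vb x a with hbdef
  let A : ZMod p → G := fun i => a ^ i.val
  have hAc : ∀ k : ℕ, A (k : ZMod p) = a ^ k := fun k => by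
    show a ^ (k : ZMod p).val = a ^ k
    rw [ZMod.val_natCast, ← pow_eq_pow_mod k h.r1]
  have hA : ∀ i j, A (i + j) = A i * A j := fun i j => by
    show a ^ (i + j).val = a ^ i.val * a ^ j.val
    rw [ZMod.val_add, ← pow_eq_pow_mod _ h.r1, pow_add]
  have hA0 : A 0 = 1 := by simpa using hAc 0
  have hA1 : A 1 = a := by simpa using hAc 1
  let X : ZMod p → G := fun i => A i * x * (A i)⁻¹
  have hX0 : X 0 = x := by simp [X, hA0]
  have hX1 : X 1 = a * x * a⁻¹ := by simp [X, hA1]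
  have hXa : ∀ i j, A i * X j * (A i)⁻¹ = X (i + j) := fun i j => by
    simp only [X, hA]; group
  have hbA : ∀ i, b * A i * b⁻¹ = A ((n : ZMod p) * i) := fun i => by
    rw [← ZMod.natCast_zmod_val i, ← Nat.cast_mul, hAc, hAc, ← conj_pow, h.r2, pow_mul]
  have hbX : ∀ i, b * X i * b⁻¹ = (X ((n : ZMod p) * i))⁻¹ := fun i => by
    simp only [X]
    rw [← hbA, show b * (A i * x * (A i)⁻¹) * b⁻¹ =
      (b * A i * b⁻¹) * (b * x * b⁻¹) * (b * A i * b⁻¹)⁻¹ by group, h.r3]
    group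
  -- the block
  have hXpair : ∀ i : ZMod p, i ≠ 0 → (X 0 * X i) ^ 2 = 1 := by
    have step : ∀ k : ℕ, (X 0 * X ((n : ZMod p) ^ k)) ^ 2 = 1 := by
      intro k
      induction k with
      | zero => rw [pow_zero, hX0, hX1, h.r4, hx]
      | succ k ih =>
        have h1 := congrArg (fun g => b * g * b⁻¹) ih
        simp only [mul_one, mul_inv_cancel] at h1
        rw [← conj_pow, ← conj_mul, hbX, hbX, mul_zero, inv_mul_inv_sq, inv_eq_one] at h1
        rw [pow_succ' (n : ZMod p)]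
        exact pair_swap h1
    intro i hi
    obtain ⟨k, rfl⟩ := hgen i hi
    exact step k
  -- the twist
  set u := a⁻¹ * t with hu
  set d := defect vb x t a with hd
  have hub : u * b = b * u * d := by rw [hd, defect, ← hbdef, ← hu, mul_inv_cancel_left]
  have hdX : ∀ i, d * X i * d⁻¹ = X i := fun i => by
    have : Commute d (X i) := ((h.r5a.pow_right _).mul_right h.r5x).mul_right ((h.r5a.pow_right _).inv_right)
    rw [this.eq, mul_inv_cancel_right]
  have hux : ∀ i : ZMod p, i ≠ 0 → u * X i * u⁻¹ = X i ^ (f : ℤ) := by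
    have step : ∀ k : ℕ, u * X ((n : ZMod p) ^ k) * u⁻¹ = X ((n : ZMod p) ^ k) ^ (f : ℤ) := by
      intro k
      induction k with
      | zero => rw [pow_zero, hX1]; exact h.r6
      | succ k ih =>
        rw [pow_succ']
        have e1 : X ((n : ZMod p) * (n : ZMod p) ^ k) = b * (X ((n : ZMod p) ^ k))⁻¹ * b⁻¹ := by
          rw [← inv_inv (X ((n : ZMod p) * (n : ZMod p) ^ k)), ← hbX]; group
        rw [e1, conj_zpow, inv_zpow, ← ih]
        calc u * (b * (X ((n : ZMod p) ^ k))⁻¹ * b⁻¹) * u⁻¹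
            = (u * b) * (X ((n : ZMod p) ^ k))⁻¹ * (u * b)⁻¹ := by group
          _ = b * (u * (d * X ((n : ZMod p) ^ k) * d⁻¹)⁻¹ * u⁻¹) * b⁻¹ := by rw [hub]; group
          _ = _ := by rw [hdX]; group
    intro i hi
    obtain ⟨k, rfl⟩ := hgen i hi
    exact step k
  have htx : ∀ i : ZMod p, i ≠ 0 → t * X i * t⁻¹ = X (i + 1) ^ (f : ℤ) := by
    intro i hi
    rw [show t * X i * t⁻¹ = a * (u * X i * u⁻¹) * a⁻¹ by rw [hu]; group, hux i hi, ← conj_zpow]
    congr 1
    rw [← hA1, hXa, add_comm]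
  -- the conjugates indexed by integers
  let Y : ℤ → G := fun j => (t ^ j * x * (t ^ j)⁻¹) ^ ((f ^ j : ℤˣ) : ℤ)
  have hff : ∀ j : ℤ, f ^ j * f ^ j = 1 := fun j => Int.units_mul_self _
  have hYshift : ∀ i j : ℤ, t ^ j * Y i * (t ^ j)⁻¹ = Y (i + j) ^ ((f ^ j : ℤˣ) : ℤ) := by
    intro i j
    simp only [Y]
    rw [zpow_unit_unit, zpow_add f, mul_assoc (f ^ i), hff, mul_one, ← conj_zpow, add_comm i j, zpow_add t]
    congr 1
    group
  have hY1 : ∀ i : ℤ, t * Y i * t⁻¹ = Y (i + 1) ^ (f : ℤ) := fun i => by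
    simpa using hYshift i 1
  have hY0 : Y 0 = x := by simp [Y]
  have hYX : ∀ k : ℕ, k < p → Y (-(k : ℤ)) = X (-(k : ZMod p)) := by
    intro k
    induction k with
    | zero => intro _; simp only [Nat.cast_zero, neg_zero]; rw [hY0, hX0]
    | succ k ih =>
      intro hk
      have h1 : t * Y (-((k + 1 : ℕ) : ℤ)) * t⁻¹ = X (-(k : ZMod p)) ^ (f : ℤ) := by
        rw [hY1, ← ih (by omega)]
        congr 2; push_cast; ring
      have h2 : t * X (-((k + 1 : ℕ) : ZMod p)) * t⁻¹ = X (-(k : ZMod p)) ^ (f : ℤ) := by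
        rw [htx]
        · congr 2; push_cast; ring
        · rw [ne_eq, neg_eq_zero, ZMod.natCast_eq_zero_iff]
          exact fun hd => absurd (Nat.le_of_dvd (by omega) hd) (by omega)
      rw [← h2] at h1
      exact mul_left_cancel (mul_right_cancel h1)
  have hYcube : ∀ j : ℤ, Y j ^ 3 = 1 := fun j => by
    simp only [Y]
    rw [cube_zpow, conj_pow, hx, mul_one, mul_inv_cancel, one_zpow]
  have hclose : ∀ (i : ℤ) (d : ℕ), 0 < d → d < p → (Y i * Y (i + d)) ^ 2 = 1 := by
    intro i d hd0 hdp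
    have hne : (-(d : ZMod p)) ≠ 0 := by
      rw [ne_eq, neg_eq_zero, ZMod.natCast_eq_zero_iff]
      exact fun hd => absurd (Nat.le_of_dvd hd0 hd) (by omega)
    have h0 : (Y (-(d : ℤ)) * Y 0) ^ 2 = 1 := by
      rw [hYX d hdp, hY0, ← hX0]; exact pair_swap (hXpair _ hne)
    have h1 := congrArg (fun g => t ^ (i + d) * g * (t ^ (i + d))⁻¹) h0
    simp only [mul_one, mul_inv_cancel] at h1
    rw [← conj_pow, ← conj_mul, hYshift, hYshift, show -(d : ℤ) + (i + d) = i by ring, zero_add] at h1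
    exact pair_unit _ h1
  have hnear : ∀ i j : ℤ, i ≠ j → (i - j).natAbs < p → (Y i * Y j) ^ 2 = 1 := by
    intro i j hij hlt
    rcases lt_or_gt_of_ne hij with hl | hl
    · have := hclose i (i - j).natAbs (by omega) hlt
      rwa [show i + ((i - j).natAbs : ℤ) = j by omega] at this
    · have := hclose j (i - j).natAbs (by omega) hlt
      rw [show j + ((i - j).natAbs : ℤ) = i by omega] at this
      exact pair_swap this
  have hzn : ∀ k : ℕ, zn f x t k = Y (-(k : ℤ)) := fun k => by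
    simp only [zn, Y, inv_pow, zpow_neg, zpow_natCast, Int.units_inv_eq_self]
  -- the last window closes the cycle
  let C : ZMod p → G := fun i => Y (-(((-i).val + (m - p) : ℕ) : ℤ))
  have hC : Carm C := by
    refine ⟨fun i => hYcube _, fun i j hij => hnear _ _ ?_ ?_⟩
    · intro hh
      refine hij (neg_injective (ZMod.val_injective p ?_))
      omega
    · have := ZMod.val_lt (-i); have := ZMod.val_lt (-j); omega
  obtain ⟨ψ, hψ⟩ := exists_hom C hC
  have hψw : winEl m f w x t = ψ (FreeGroup.lift cyc w) := by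
    rw [winEl, map_lift]
    exact congrArg (fun g => FreeGroup.lift g w) (funext fun i => (hzn _).trans (hψ i).symm)
  have hconj := congrArg ψ hw
  rw [map_mul, map_mul, map_inv, map_zpow, ← hψw, hψ, hψ] at hconj
  simp only [C, neg_neg] at hconj
  rw [ZMod.val_natCast_of_lt (show p - e < p by omega), ZMod.val_natCast_of_lt (show 2 * p - e - m < p by omega),
    show p - e + (m - p) = m - e by omega, show 2 * p - e - m + (m - p) = p - e by omega,
    hYX (p - e) (by omega)] at hconj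
  have hXe : X (-((p - e : ℕ) : ZMod p)) = a ^ e * x * (a ^ e)⁻¹ := by
    rw [show (-((p - e : ℕ) : ZMod p)) = (e : ZMod p) by
      rw [Nat.cast_sub hep.le, ZMod.natCast_self, zero_sub, neg_neg]]
    simp only [X, hAc]
  have hte : (t ^ e)⁻¹ = (a ^ e)⁻¹ * winEl m f w x t := by rw [← h.rw', inv_mul_cancel_left]
  have hYm : Y (-(m : ℤ)) = x := by
    have h1 := hYshift (-((m - e : ℕ) : ℤ)) (-(e : ℤ))
    rw [zpow_neg, zpow_natCast, inv_inv, show -((m - e : ℕ) : ℤ) + -(e : ℤ) = -(m : ℤ) by omega,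
      zpow_neg f, zpow_natCast, Int.units_inv_eq_self] at h1
    have h2 : (t ^ e)⁻¹ * Y (-((m - e : ℕ) : ℤ)) * t ^ e = x ^ ((f ^ e : ℤˣ) : ℤ) := by
      rw [show (t ^ e)⁻¹ * Y (-((m - e : ℕ) : ℤ)) * t ^ e =
        (t ^ e)⁻¹ * Y (-((m - e : ℕ) : ℤ)) * ((t ^ e)⁻¹)⁻¹ by rw [inv_inv], hte]
      calc (a ^ e)⁻¹ * winEl m f w x t * Y (-((m - e : ℕ) : ℤ)) * ((a ^ e)⁻¹ * winEl m f w x t)⁻¹
          = (a ^ e)⁻¹ * (winEl m f w x t * Y (-((m - e : ℕ) : ℤ)) * (winEl m f w x t)⁻¹) * a ^ e := by group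
        _ = _ := by rw [hconj, hXe, conj_zpow]; group
    have h3 := congrArg (fun g => g ^ ((f ^ e : ℤˣ) : ℤ)) (h1.symm.trans h2)
    simpa only [zpow_unit_unit, Int.units_mul_self, Units.val_one, zpow_one] using h3
  have hper : Function.Periodic Y (m : ℤ) := by
    have h1 : ∀ j : ℤ, Y (j - m) = Y j := fun j => by
      have e1 := hYshift (-(m : ℤ)) j
      have e2 := hYshift 0 j
      rw [hY0] at e2
      rw [hYm, e2, zero_add, show -(m : ℤ) + j = j - m by ring] at e1
      have := congrArg (fun g => g ^ ((f ^ j : ℤˣ) : ℤ)) e1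
      simpa only [zpow_unit_unit, Int.units_mul_self, Units.val_one, zpow_one] using this.symm
    intro j
    rw [← h1 (j + m), add_sub_cancel_right]
  have hym : ∀ i : ZMod m, yv f x t i = Y (i.val : ℤ) := fun i => by
    simp only [yv, Y, zpow_natCast]
  have hymc : ∀ j : ℤ, yv f x t ((j : ℤ) : ZMod m) = Y j := fun j => by
    rw [hym, ZMod.val_intCast, Int.emod_def, mul_comm]
    exact hper.sub_int_mul_eq (j / (m : ℤ))
  set M := closure (Set.range (yv (m := m) f x t)) with hM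
  have hYM : ∀ j, Y j ∈ M := fun j => hymc j ▸ subset_closure ⟨_, rfl⟩
  -- `a` is a product of conjugates
  have haM : a ∈ M := by
    set K := closure (Set.range X) with hK
    have hKM : K ≤ M := by
      rw [hK, closure_le]
      rintro _ ⟨i, rfl⟩
      have := hYX (-i).val (ZMod.val_lt _)
      rw [ZMod.natCast_zmod_val, neg_neg] at this
      exact this ▸ hYM _
    have hbK : b ∈ K := by
      rw [hK, ← FreeGroup.range_lift_eq_closure]; exact ⟨vb, rfl⟩
    have hconjK : K.map (MulAut.conj a).toMonoidHom ≤ K := by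
      rw [hK, MonoidHom.map_closure, closure_le]
      rintro _ ⟨_, ⟨i, rfl⟩, rfl⟩
      refine subset_closure ⟨1 + i, ?_⟩
      show X (1 + i) = a * X i * a⁻¹
      rw [← hXa, hA1]
    have hmem : A ((n : ZMod p) - 1) ∈ K := by
      have h1 : b * (a * b⁻¹ * a⁻¹) ∈ K := mul_mem hbK (hconjK ⟨b⁻¹, inv_mem hbK, rfl⟩)
      have h2 : A ((n : ZMod p) - 1) * a = b * a * b⁻¹ := by
        rw [h.r2, ← hAc]; nth_rewrite 1 [← hA1]; rw [← hA, sub_add_cancel]
      rw [eq_mul_inv_iff_mul_eq.2 h2, show b * a * b⁻¹ * a⁻¹ = b * (a * b⁻¹ * a⁻¹) by group]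
      exact h1
    have hne : (n : ZMod p) - 1 ≠ 0 := by
      intro h0
      have h2 : ((2 : ℕ) : ZMod p) ≠ 0 := by
        rw [ne_eq, ZMod.natCast_eq_zero_iff]
        exact fun hd => hp2 ((Nat.prime_dvd_prime_iff_eq hp Nat.prime_two).1 hd)
      obtain ⟨k, hk⟩ := hgen _ h2
      rw [sub_eq_zero.1 h0, one_pow, ← Nat.cast_one, ZMod.natCast_eq_natCast_iff'] at hk
      rw [Nat.mod_eq_of_lt (by have := hp.two_le; omega), Nat.mod_eq_of_lt (by have := hp.two_le; omega)] at hk
      omega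
    set c := (n : ZMod p) - 1
    refine hKM ?_
    have h3 := Subgroup.pow_mem K hmem (c⁻¹).val
    rwa [show A c ^ (c⁻¹).val = A 1 by
      show (a ^ c.val) ^ (c⁻¹).val = _
      rw [← pow_mul, ← hAc, Nat.cast_mul, ZMod.natCast_zmod_val, ZMod.natCast_zmod_val, mul_inv_cancel₀ hne],
      hA1] at h3
  refine ⟨⟨?_, ?_, ?_, fun i => ?_, fun i j hij => ?_, fun i => ?_⟩, haM, ?_⟩
  · rw [hym, ZMod.val_zero, Nat.cast_zero, hY0]
  · rw [hx, one_pow]
  · rw [hx]; exact Commute.one_right t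
  · rw [hym, hYcube, hx]
  · rw [hx]
    set d := (j - i).val with hd
    have hd0 : 0 < d := Nat.pos_of_ne_zero fun h0 => hij (sub_eq_zero.1 ((ZMod.val_eq_zero _).1 h0)).symm
    have hdm : d < m := ZMod.val_lt _
    rcases Nat.lt_or_ge d p with hlt | hge
    · have h2 := hclose (i.val : ℤ) d hd0 hlt
      rwa [← hym, ← hymc, show ((((i.val : ℤ) + (d : ℤ)) : ℤ) : ZMod m) = j by
        push_cast; rw [hd, ZMod.natCast_zmod_val, ZMod.natCast_zmod_val, add_sub_cancel]] at h2
    · have h2 := pair_swap (hclose (j.val : ℤ) (m - d) (by omega) (by omega))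
      rwa [← hym, ← hymc, show ((((j.val : ℤ) + ((m - d : ℕ) : ℤ)) : ℤ) : ZMod m) = i by
        push_cast [Nat.cast_sub hdm.le]
        rw [hd, ZMod.natCast_zmod_val, ZMod.natCast_zmod_val, ZMod.natCast_self]; ring] at h2
  · rw [hym, hY1, ← hymc]
    congr 2
    push_cast
    rw [ZMod.natCast_zmod_val]
  · have hw2 : winEl m f w x t ∈ M := by
      have hle : (FreeGroup.lift fun i : ZMod p => zn f x t ((-i).val + (m - p))).range ≤ M := by
        rw [FreeGroup.range_lift_eq_closure, closure_le]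
        rintro _ ⟨i, rfl⟩
        show zn f x t ((-i).val + (m - p)) ∈ M
        rw [hzn]; exact hYM _
      exact hle ⟨w, rfl⟩
    have h1 : (t ^ e)⁻¹ ∈ M := by rw [hte]; exact mul_mem (inv_mem (pow_mem haM _)) hw2
    exact inv_mem_iff.1 h1

end Cfsg.Agent.Lib.ThreeGenPres
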