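import Mathlib
import Cfsg.Agent.Lib.ThreeGenPres.Derive
import Cfsg.Agent.Lib.ShortPres.Instances

/-!
Seven relators on three elements present a group of the order of the target.
-/

set_option autoImplicit false
set_option linter.unusedSectionVars false
set_option linter.style.haveILetI false

namespace Cfsg.Agent.Lib.ThreeGenPres

open Subgroup
open Cfsg.Agent.Lib.BoundedPresentation
open Cfsg.Agent.Lib.ShortPres (yv Rules exists_hom_of_card cover_one cover_two)

/-- The data under which the derivation works. -/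
structure Good (p n m e : ℕ) [Fact p.Prime] (f : ℤˣ) (w : FreeGroup (ZMod p)) : Prop where
  hgen : ∀ i : ZMod p, i ≠ 0 → ∃ k : ℕ, i = (n : ZMod p) ^ k
  hp2 : p ≠ 2
  hpm : p ≤ m
  he : e = 1 ∨ e = 2
  hep : e < p
  hmp : m + e ≤ 2 * p
  hw : FreeGroup.lift (cyc : ZMod p → Alt2 (ZMod p)) w * cyc (-((p - e : ℕ) : ZMod p)) *
      (FreeGroup.lift (cyc : ZMod p → Alt2 (ZMod p)) w)⁻¹ =
    cyc (-((2 * p - e - m : ℕ) : ZMod p)) ^ ((f ^ e : ℤˣ) : ℤ)

variable {p n m e : ℕ} [Fact p.Prime] [NeZero m] {f : ℤˣ} {vb w : FreeGroup (ZMod p)}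

theorem bound_one (hg : Good p n m e f w) {G : Type} [Group G] {x t a : G}
    (h : Sys p n m e f vb w x t a) (hx : x ^ 3 = 1) :
    (closure (Set.range ![x, t, a]) : Set G).Finite ∧
      Nat.card (closure (Set.range ![x, t, a])) ≤ e * Nat.card (Alt2 (ZMod m)) := by
  obtain ⟨hr, ha, hte⟩ := rules h hx hg.hgen hg.hp2 hg.hpm (by rcases hg.he with h | h <;> omega) hg.hep
    hg.hmp hg.hw
  have hxM : x ∈ closure (Set.range (yv (m := m) f x t)) := subset_closure ⟨0, hr.base⟩
  obtain ⟨hfin, -, hc⟩ := hr.cover_bound (e := e) (closure (Set.range ![x, t, a])) (fun g hgK => by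
    rcases hg.he with h1 | h2
    · subst h1
      rw [pow_one] at hte
      refine cover_one hr ![x, t, a] (fun k => ?_) g hgK
      fin_cases k
      exacts [hxM, hte, ha]
    · subst h2
      refine cover_two hr hte ![x, t, a] (fun k => ?_) g hgK
      fin_cases k
      exacts [mem_sup_right hxM, mem_sup_left (mem_zpowers t), mem_sup_right ha])
  exact ⟨hfin, hc hx⟩

theorem bound_two (hg : Good p n m e f w) {G : Type} [Group G] {x t a : G}
    (h : Sys p n m e f vb w x t a) :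
    (closure (Set.range ![x, t, a]) : Set G).Finite ∧
      Nat.card (closure (Set.range ![x, t, a])) ≤ 2 * (e * Nat.card (Alt2 (ZMod m))) := by
  obtain ⟨hz2, haz, htz⟩ := cube_central (b := bEl vb x a) rfl h.r1 h.r2 h.r3 h.r4 h.r6 hg.hgen
  set D := closure (Set.range ![x, t, a]) with hD
  let xD : D := ⟨x, subset_closure ⟨0, rfl⟩⟩
  let tD : D := ⟨t, subset_closure ⟨1, rfl⟩⟩
  let aD : D := ⟨a, subset_closure ⟨2, rfl⟩⟩
  have hSD : Sys p n m e f vb w xD tD aD := Sys.of_injective D.subtype Subtype.val_injective h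
  set z : D := xD ^ 3 with hz
  have hzc : z ∈ center D := by
    rw [mem_center_iff]
    rintro ⟨g, hgD⟩
    apply Subtype.ext
    have : g ∈ centralizer ({x ^ 3} : Set G) := by
      refine (closure_le _).2 ?_ hgD
      rintro _ ⟨k, rfl⟩
      rw [SetLike.mem_coe, mem_centralizer_singleton_iff]
      fin_cases k
      exacts [((Commute.refl x).pow_right 3).eq, htz.eq, haz.eq]
    exact mem_centralizer_singleton_iff.1 this
  set N : Subgroup D := zpowers z with hN
  have hNc : N ≤ center D := zpowers_le.2 hzc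
  haveI : N.Normal := ⟨fun v hv g => by
    rw [(mem_center_iff.1 (hNc hv) g), mul_inv_cancel_right]; exact hv⟩
  let q : D →* D ⧸ N := QuotientGroup.mk' N
  obtain ⟨hfin, hcard⟩ := bound_one hg (hSD.map q) (by
    rw [← map_pow]; exact (QuotientGroup.eq_one_iff z).2 (mem_zpowers z))
  have htopD : closure (Set.range ![xD, tD, aD]) = ⊤ := by
    apply map_injective D.subtype_injective
    rw [MonoidHom.map_closure, ← Set.range_comp, ← MonoidHom.range_eq_map, Subgroup.range_subtype]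
    show _ = closure (Set.range ![x, t, a])
    congr 2
    funext k; fin_cases k <;> rfl
  have htop : closure (Set.range ![q xD, q tD, q aD]) = ⊤ := by
    have := congrArg (Subgroup.map q) htopD
    rw [MonoidHom.map_closure, ← Set.range_comp,
      Subgroup.map_top_of_surjective _ (QuotientGroup.mk'_surjective N)] at this
    rw [← this]
    congr 2
    funext k; fin_cases k <;> rfl
  rw [htop] at hfin hcard
  haveI : Finite (D ⧸ N) := Set.finite_univ_iff.1 (by simpa using hfin)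
  rw [Subgroup.card_top] at hcard
  have hz2' : z ^ 2 = 1 := Subtype.ext (by push_cast; exact hz2)
  have hN2 : Nat.card N ≤ 2 := by
    rw [hN, Nat.card_zpowers]; exact orderOf_le_of_pow_eq_one two_pos hz2'
  have hNpos : 0 < Nat.card N := by
    rw [hN, Nat.card_zpowers]
    exact (isOfFinOrder_iff_pow_eq_one.2 ⟨2, two_pos, hz2'⟩).orderOf_pos
  have hc : Nat.card D = Nat.card (D ⧸ N) * Nat.card N := card_eq_card_quotient_mul_card_subgroup N
  have hpos : 0 < Nat.card D := by rw [hc]; exact Nat.mul_pos Nat.card_pos hNpos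
  haveI : Finite D := Nat.finite_of_card_ne_zero hpos.ne'
  refine ⟨Set.toFinite _, ?_⟩
  rw [hc, mul_comm 2]
  exact Nat.mul_le_mul hcard hN2

/-- The seven relators. -/
def relList {G : Type} [Group G] (p n m e : ℕ) (f : ℤˣ) (vb w : FreeGroup (ZMod p)) (δ : ℕ) (x t a : G) :
    List G :=
  [a ^ p, bEl vb x a * a * (bEl vb x a)⁻¹ * (a ^ n)⁻¹, bEl vb x a * x * (bEl vb x a)⁻¹ * x,
    (x * (a * x * a⁻¹)) ^ 2 * (x ^ 3)⁻¹,
    a⁻¹ * t * bEl vb x a * (bEl vb x a * (a⁻¹ * t) * x ^ (3 * δ))⁻¹,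
    a⁻¹ * t * (a * x * a⁻¹) * (a⁻¹ * t)⁻¹ * ((a * x * a⁻¹) ^ (f : ℤ))⁻¹,
    a ^ e * (t ^ e)⁻¹ * (winEl m f w x t)⁻¹]

theorem map_relList {G G' : Type} [Group G] [Group G'] (F : G →* G') (δ : ℕ) (x t a : G) :
    (relList p n m e f vb w δ x t a).map F = relList p n m e f vb w δ (F x) (F t) (F a) := by
  simp only [relList, List.map_cons, List.map_nil, map_mul, map_inv, map_pow, map_zpow, map_bEl, map_winEl]

theorem sys_of_relList (hg : Good p n m e f w) {G : Type} [Group G] {δ : ℕ} {x t a : G}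
    (h : ∀ r ∈ relList p n m e f vb w δ x t a, r = 1) :
    Sys p n m e f vb w x t a ∧ defect vb x t a = x ^ (3 * δ) := by
  simp only [relList, List.forall_mem_cons, mul_eq_one_iff_eq_inv, inv_inv] at h
  obtain ⟨h1, h2, h3, h4, h5, h6, h7, -⟩ := h
  have hd : defect vb x t a = x ^ (3 * δ) := by rw [defect, h5, inv_mul_cancel_left]
  obtain ⟨-, haz, -⟩ := cube_central (b := bEl vb x a) rfl h1 h2 h3 h4 h6 hg.hgen
  refine ⟨⟨h1, h2, h3, h4, ?_, ?_, h6, h7⟩, hd⟩
  · rw [hd]; exact (Commute.refl x).pow_left _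
  · rw [hd, pow_mul]; exact haz.symm.pow_left δ

/-- Seven relators present `H` on three named elements. -/
theorem pres_of_sys (hg : Good p n m e f w) {H : Type} [Group H] [Finite H] {X T A : H}
    (hH : Sys p n m e f vb w X T A) (hd : defect vb X T A = 1) (hX : X ^ 3 = 1)
    (hs : closure (Set.range ![X, T, A]) = ⊤) (hcard : e * Nat.card (Alt2 (ZMod m)) = Nat.card H) :
    Pres ![X, T, A] 7 := by
  classical
  let R : ℕ → Finset (FreeGroup (Fin 3)) := fun δ =>
    (relList p n m e f vb w δ (FreeGroup.of 0) (FreeGroup.of 1) (FreeGroup.of 2)).toFinset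
  have hRcard : ∀ δ, (R δ).card ≤ 7 := fun δ => (List.toFinset_card_le _).trans (le_of_eq rfl)
  have hRiff : ∀ {G : Type} [Group G] (y : Fin 3 → G) (δ : ℕ), (∀ r ∈ R δ, FreeGroup.lift y r = 1) ↔
      ∀ r ∈ relList p n m e f vb w δ (y 0) (y 1) (y 2), r = 1 := by
    intro G _ y δ
    have := map_relList (p := p) (n := n) (m := m) (e := e) (f := f) (vb := vb) (w := w) (FreeGroup.lift y) δ
      (FreeGroup.of 0) (FreeGroup.of 1) (FreeGroup.of 2)
    simp only [FreeGroup.lift_apply_of] at this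
    rw [← this]
    simp only [R, List.mem_toFinset, List.forall_mem_map]
  have hRH : ∀ δ, ∀ r ∈ R δ, FreeGroup.lift ![X, T, A] r = 1 := fun δ => by
    rw [hRiff]
    have h5 : A⁻¹ * T * bEl vb X A = bEl vb X A * (A⁻¹ * T) := (inv_mul_eq_one.1 hd).symm
    simp only [relList, List.forall_mem_cons, Matrix.cons_val_zero, Matrix.cons_val_one, Matrix.cons_val,
      mul_eq_one_iff_eq_inv, inv_inv, pow_mul, hX, one_pow, mul_one]
    refine ⟨hH.r1, hH.r2, hH.r3, ?_, h5, hH.r6, hH.rw', by simp⟩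
    rw [← hX]; exact hH.r4
  have heta : ∀ {G : Type} (y : Fin 3 → G), ![y 0, y 1, y 2] = y := fun y => by
    funext k; fin_cases k <;> rfl
  have hpair : ∀ {G₁ G₂ : Type} (y₁ : Fin 3 → G₁) (y₂ : Fin 3 → G₂),
      ![(y₁ 0, y₂ 0), (y₁ 1, y₂ 1), (y₁ 2, y₂ 2)] = fun k => (y₁ k, y₂ k) := fun y₁ y₂ => by
    funext k; fin_cases k <;> rfl
  have huniv : ∀ (G : Type) [Group G] (y : Fin 3 → G), Sys p n m e f vb w (y 0) (y 1) (y 2) → y 0 ^ 3 = 1 →
      ∃ ψ : H →* G, ∀ k, ψ (![X, T, A] k) = y k := by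
    intro G _ y hy hx
    obtain ⟨hfin, hc⟩ := bound_one hg (hH.prod hy) (Prod.ext hX hx)
    have he' : ![(X, y 0), (T, y 1), (A, y 2)] = fun k => (![X, T, A] k, y k) := hpair ![X, T, A] y
    rw [he'] at hfin hc
    exact exists_hom_of_card hs y hfin (hc.trans_eq hcard)
  let y₀ : Fin 3 → PresentedGroup (↑(R 0) : Set (FreeGroup (Fin 3))) := PresentedGroup.of
  have hy₀ : ∀ r ∈ R 0, FreeGroup.lift y₀ r = 1 := by
    intro r hr
    have : FreeGroup.lift y₀ = PresentedGroup.mk (↑(R 0) : Set (FreeGroup (Fin 3))) :=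
      FreeGroup.ext_hom _ _ fun k => by rw [FreeGroup.lift_apply_of]; rfl
    rw [this]; exact PresentedGroup.one_of_mem (Finset.mem_coe.2 hr)
  obtain ⟨hS₀, hd₀⟩ := sys_of_relList hg ((hRiff y₀ 0).1 hy₀)
  by_cases hz₀ : y₀ 0 ^ 3 = 1
  · refine ⟨R 0, hRcard 0, hRH 0, fun G _ y hy => huniv G y (sys_of_relList hg ((hRiff y 0).1 hy)).1 ?_⟩
    let η := PresentedGroup.toGroup (f := y) (fun r hr => hy r (Finset.mem_coe.1 hr))
    have := congrArg η hz₀
    rw [map_pow, map_one] at this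
    simpa only [η, y₀, PresentedGroup.toGroup.of] using this
  refine ⟨R 1, hRcard 1, hRH 1, fun G _ y hy => ?_⟩
  obtain ⟨hS, hd1⟩ := sys_of_relList hg ((hRiff y 1).1 hy)
  refine huniv G y hS ?_
  let π : PresentedGroup (↑(R 0) : Set (FreeGroup (Fin 3))) →* H :=
    PresentedGroup.toGroup (f := ![X, T, A]) (fun r hr => hRH 0 r (Finset.mem_coe.1 hr))
  have hπs : ∀ k, π (y₀ k) = ![X, T, A] k := fun k => PresentedGroup.toGroup.of _
  have hy₀top : closure (Set.range y₀) = ⊤ := PresentedGroup.closure_range_of _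
  obtain ⟨hfin₀, -⟩ := bound_two hg hS₀
  haveI : Finite (PresentedGroup (↑(R 0) : Set (FreeGroup (Fin 3)))) := by
    rw [heta y₀, hy₀top] at hfin₀; exact Set.finite_univ_iff.1 (by simpa using hfin₀)
  have hπsurj : Function.Surjective π := by
    rw [← MonoidHom.range_eq_top, eq_top_iff, ← hs, closure_le]
    rintro _ ⟨k, rfl⟩
    exact ⟨y₀ k, hπs k⟩
  have hbig : 2 * Nat.card H ≤ Nat.card (PresentedGroup (↑(R 0) : Set (FreeGroup (Fin 3)))) := by
    have hker : y₀ 0 ^ 3 ∈ π.ker := by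
      rw [MonoidHom.mem_ker, map_pow, hπs]
      exact hX
    haveI : Nontrivial π.ker := ⟨⟨⟨_, hker⟩, 1, fun h => hz₀ (congrArg Subtype.val h)⟩⟩
    rw [card_eq_card_quotient_mul_card_subgroup π.ker,
      Nat.card_congr (QuotientGroup.quotientKerEquivOfSurjective π hπsurj).toEquiv, mul_comm 2]
    exact Nat.mul_le_mul_left _ Finite.one_lt_card
  obtain ⟨hfin', hle'⟩ := bound_two hg (hS₀.prod hS)
  rw [hpair y₀ y] at hfin' hle'
  obtain ⟨η, hη⟩ := exists_hom_of_card hy₀top y hfin' (hle'.trans (hcard ▸ hbig))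
  have h := congrArg η hd₀
  rw [map_defect, hη, hη, hη, hd1, mul_zero, pow_zero, map_one, mul_one] at h
  exact h

end Cfsg.Agent.Lib.ThreeGenPres
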