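import Mathlib
import Cfsg.Agent.Lib.ThreeGenPres.Main
import Cfsg.Agent.Lib.ShortPres.Target

/-!
The seven relations on three elements hold in alternating and symmetric groups.
-/

set_option autoImplicit false
set_option linter.unusedSectionVars false
set_option linter.style.haveILetI false

namespace Cfsg.Agent.Lib.ThreeGenPres

open Equiv Equiv.Perm
open Cfsg.Agent.Lib.BoundedPresentation
open Cfsg.Agent.Lib.ShortPres (pt pt_zero pt_succ pt_injective exists_multiplier zpow_unit_unit)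

theorem exists_prime_wide {m : ℕ} (hm : 3 ≤ m) : ∃ p, p.Prime ∧ p ≤ m ∧ m + 2 ≤ 2 * p ∧ p ≠ 2 := by
  rcases Nat.lt_or_ge m 5 with h | h
  · exact ⟨3, Nat.prime_three, by omega, by omega, by omega⟩
  obtain ⟨p, hp, h1, h2⟩ := Nat.exists_prime_lt_and_le_two_mul ((m + 1) / 2) (by omega)
  refine ⟨p, hp, ?_, by omega, by omega⟩
  by_contra hle
  have hev : 2 ∣ p := ⟨(m + 1) / 2, by omega⟩
  have := (Nat.prime_dvd_prime_iff_eq Nat.prime_two hp).1 hev
  omega

section target

variable {m : ℕ} [NeZero m] {H : Type} [Group H] (ι : Alt2 (ZMod m) →* H) (T : H) (f : ℤˣ) (e : ℕ)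

theorem exists_sys (hm : 3 ≤ m) (hcyc : ∀ i, T * ι (cyc i) * T⁻¹ = ι (cyc (i + 1)) ^ (f : ℤ))
    (hlift : ∀ π : Perm (ZMod m), T * ι (evenLift π) * T⁻¹ =
      ι (evenLift (Equiv.addLeft (1 : ZMod m) * π * (Equiv.addLeft (1 : ZMod m))⁻¹)))
    (he12 : e = 1 ∨ e = 2) (hTe : T ^ e = ι (evenLift (Equiv.addLeft (e : ZMod m))))
    (hse : sign (Equiv.addLeft (e : ZMod m)) = f ^ e) :
    ∃ (p n : ℕ) (_ : Fact p.Prime) (vb w : FreeGroup (ZMod p)) (A : H), Good p n m e f w ∧
      Sys p n m e f vb w (ι (cyc 0)) T A ∧ defect vb (ι (cyc 0)) T A = 1 := by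
  classical
  obtain ⟨p, hp, hpm, hmp, hp2⟩ := exists_prime_wide hm
  haveI := Fact.mk hp
  haveI : Fact (1 < p) := ⟨hp.one_lt⟩
  have hp3 : 3 ≤ p := by have := hp.two_le; omega
  obtain ⟨n, hgen, μ, hμ, hμs⟩ := exists_multiplier p hp2
  let emb : ZMod p ↪ ZMod m := ⟨pt m, pt_injective hpm⟩
  let V : Perm (ZMod p) →* Perm (ZMod m) := Perm.viaEmbeddingHom emb
  let α₁ : Perm (ZMod p) := Equiv.addLeft 1
  have hα : ∀ (k : ℕ) (i : ZMod p), (α₁ ^ k) i = (k : ZMod p) + i := by
    intro k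
    induction k with
    | zero => intro i; simp
    | succ k ih =>
      intro i
      rw [pow_succ', Perm.mul_apply, ih]
      show 1 + ((k : ZMod p) + i) = _
      push_cast; ring
  have hαp : α₁ ^ p = 1 := Equiv.ext fun i => by rw [hα, ZMod.natCast_self, zero_add]; rfl
  have hαs : sign α₁ = 1 := by
    have h := congrArg sign hαp
    rw [map_pow, map_one] at h
    obtain ⟨c, hc⟩ := hp.odd_of_ne_two hp2
    have h' : sign α₁ ^ (2 * c + 1) = 1 := by rw [← hc]; exact h
    rwa [pow_add, pow_mul, Int.units_sq, one_pow, one_mul, pow_one] at h'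
  have hVs : ∀ π, sign (V π) = sign π := fun π => by
    classical
    rw [show V π = Perm.extendDomain π (Equiv.ofInjective emb.1 emb.2) from ?_]
    · exact sign_extendDomain π _
    · show Perm.viaEmbedding π emb = _
      unfold Perm.viaEmbedding
      convert rfl
  have hVapply : ∀ π i, V π (pt m i) = pt m (π i) := fun π i => Perm.viaEmbedding_apply π emb i
  have hVfix : ∀ π x, x ∉ Set.range (pt m : ZMod p → ZMod m) → V π x = x := fun π x hx =>
    Perm.viaEmbedding_apply_of_notMem π emb x hx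
  let ρa : Perm (ZMod m) := V α₁
  let ρb : Perm (ZMod m) := V μ
  set A : H := ι (evenLift ρa) with hA
  set X : H := ι (cyc 0) with hX
  -- the block
  have hxc : ∀ i : ZMod p, xc X A i = ι (cyc (pt m i)) := fun i => by
    have h := evenLift_conj (V (α₁ ^ i.val)) (pt m (0 : ZMod p))
    rw [hVs, hVapply, hα, map_pow sign, hαs, one_pow, Units.val_one, zpow_one, ZMod.natCast_zmod_val, add_zero,
      pt_zero, map_pow, map_pow] at h
    have h' := congrArg ι h
    simp only [map_mul, map_inv, map_pow] at h'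
    exact h'
  obtain ⟨vb, hvb⟩ : ∃ v : FreeGroup (ZMod p), FreeGroup.lift (fun i => (cyc (pt m i) : Alt2 (ZMod m))) v = evenLift ρb := by
    have hmem := evenLift_mem_closure (Set.range (pt m : ZMod p → ZMod m)) ρb (fun j hj => hVfix _ _ hj)
    rw [← Set.range_comp, ← FreeGroup.range_lift_eq_closure] at hmem
    exact hmem
  have hB : bEl vb X A = ι (evenLift ρb) := by
    rw [← hvb, map_lift, bEl]
    exact congrArg (fun g => FreeGroup.lift g vb) (funext hxc)
  -- the last window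
  have hk : ∀ k : ℕ, T⁻¹ ^ k * X * (T⁻¹ ^ k)⁻¹ = ι (cyc (-(k : ZMod m))) ^ ((f ^ k : ℤˣ) : ℤ) := by
    intro k
    induction k with
    | zero => simp [hX]
    | succ k ih =>
      have h1 := hcyc (-((k + 1 : ℕ) : ZMod m))
      rw [show -((k + 1 : ℕ) : ZMod m) + 1 = -(k : ZMod m) by push_cast; ring] at h1
      have h2 : T⁻¹ * ι (cyc (-(k : ZMod m))) * T = ι (cyc (-((k + 1 : ℕ) : ZMod m))) ^ (f : ℤ) := by
        have h3 := congrArg (fun g => g ^ (f : ℤ)) h1
        simp only [zpow_unit_unit, Int.units_mul_self, Units.val_one, zpow_one] at h3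
        rw [← h3, conj_zpow]; group
      rw [show T⁻¹ ^ (k + 1) * X * (T⁻¹ ^ (k + 1))⁻¹ = T⁻¹ * (T⁻¹ ^ k * X * (T⁻¹ ^ k)⁻¹) * (T⁻¹)⁻¹ by
        rw [pow_succ']; group, ih, ← conj_zpow, inv_inv, h2, zpow_unit_unit, pow_succ', mul_comm]
  have hzn : ∀ k : ℕ, zn f X T k = ι (cyc (-(k : ZMod m))) := fun k => by
    rw [zn, hk, zpow_unit_unit, Int.units_mul_self, Units.val_one, zpow_one]
  let e2 : ZMod p → ZMod m := fun i => -(((-i).val + (m - p) : ℕ) : ZMod m)
  have he2 : Function.Injective e2 := fun i j h => by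
    have hi := ZMod.val_lt (-i)
    have hj := ZMod.val_lt (-j)
    have := congrArg ZMod.val (neg_injective h)
    rw [ZMod.val_natCast_of_lt (by omega), ZMod.val_natCast_of_lt (by omega)] at this
    exact neg_injective (ZMod.val_injective p (by omega))
  let W : Perm (ZMod m) := ρa ^ e * (Equiv.addLeft (e : ZMod m))⁻¹
  have hWfix : ∀ i ∉ Set.range e2, W i = i := by
    intro i hi
    set k := (-i).val with hkdef
    have hik : i = -(k : ZMod m) := by rw [hkdef, ZMod.natCast_zmod_val, neg_neg]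
    have hk1 : k + (p - m) < m - p := by
      by_contra hge
      apply hi
      refine ⟨-((k - (m - p) : ℕ) : ZMod p), ?_⟩
      have := ZMod.val_lt (-i)
      show -(((- -((k - (m - p) : ℕ) : ZMod p)).val + (m - p) : ℕ) : ZMod m) = i
      rw [neg_neg, ZMod.val_natCast_of_lt (by omega), hik, show k - (m - p) + (m - p) = k by omega]
    have hlt : k + e < p := by omega
    have h1 : pt m (-((k + e : ℕ) : ZMod p)) = -((k + e : ℕ) : ZMod m) := by
      rw [pt, neg_neg, ZMod.val_natCast_of_lt hlt]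
    have h2 : pt m (-(k : ZMod p)) = -(k : ZMod m) := by
      rw [pt, neg_neg, ZMod.val_natCast_of_lt (by omega)]
    show (V α₁ ^ e) ((Equiv.addLeft (e : ZMod m))⁻¹ i) = i
    rw [← map_pow, show (Equiv.addLeft (e : ZMod m))⁻¹ i = pt m (-((k + e : ℕ) : ZMod p)) by
      rw [Perm.inv_eq_iff_eq, Equiv.coe_addLeft, h1, hik]; push_cast; ring, hVapply, hα, hik, ← h2]
    congr 1
    push_cast; ring
  obtain ⟨w, hw⟩ : ∃ v : FreeGroup (ZMod p), FreeGroup.lift (fun i => (cyc (e2 i) : Alt2 (ZMod m))) v = evenLift W := by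
    have hmem := evenLift_mem_closure (Set.range e2) W hWfix
    rw [← Set.range_comp, ← FreeGroup.range_lift_eq_closure] at hmem
    exact hmem
  have hwin : winEl m f w X T = ι (evenLift W) := by
    rw [← hw, map_lift, winEl]
    exact congrArg (fun g => FreeGroup.lift g w) (funext fun i => hzn _)
  obtain ⟨φ, hφ, hφc, -⟩ := exists_inclusion (α := ZMod m) he2
  have hφw : φ (FreeGroup.lift cyc w) = evenLift W := by
    rw [← hw, map_lift]
    exact congrArg (fun g => FreeGroup.lift g w) (funext hφc)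
  have hwconj : FreeGroup.lift (cyc : ZMod p → Alt2 (ZMod p)) w * cyc (-((p - e : ℕ) : ZMod p)) *
      (FreeGroup.lift (cyc : ZMod p → Alt2 (ZMod p)) w)⁻¹ =
      cyc (-((2 * p - e - m : ℕ) : ZMod p)) ^ ((f ^ e : ℤˣ) : ℤ) := by
    apply hφ
    rw [map_mul, map_mul, map_inv, map_zpow, hφw, hφc, hφc, evenLift_conj]
    have hsW : sign W = f ^ e := by
      rw [map_mul, map_inv, map_pow, hVs, hαs, one_pow, one_mul, hse, Int.units_inv_eq_self]
    have hWe : W (e2 (-((p - e : ℕ) : ZMod p))) = e2 (-((2 * p - e - m : ℕ) : ZMod p)) := by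
      simp only [e2, neg_neg]
      rw [ZMod.val_natCast_of_lt (by omega), ZMod.val_natCast_of_lt (by omega),
        show p - e + (m - p) = m - e by omega, show 2 * p - e - m + (m - p) = p - e by omega,
        Nat.cast_sub (by omega : e ≤ m), ZMod.natCast_self, zero_sub, neg_neg]
      show (V α₁ ^ e) ((Equiv.addLeft (e : ZMod m))⁻¹ (e : ZMod m)) = _
      rw [← map_pow, show (Equiv.addLeft (e : ZMod m))⁻¹ (e : ZMod m) = pt m (0 : ZMod p) by
        rw [Perm.inv_eq_iff_eq, pt_zero]; exact (add_zero _).symm, hVapply, hα, add_zero, pt]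
      congr 2
      rw [show -(e : ZMod p) = ((p - e : ℕ) : ZMod p) by
        rw [Nat.cast_sub (by omega : e ≤ p), ZMod.natCast_self, zero_sub], ZMod.val_natCast_of_lt (by omega)]
    rw [hWe, hsW]
  have hd : defect vb X T A = 1 := by
    rw [defect, hB, hA, inv_mul_eq_one]
    have hdisj : Perm.Disjoint (ρa⁻¹ * Equiv.addLeft (1 : ZMod m)) ρb := by
      intro x
      by_cases hx : x ∈ Set.range (pt m : ZMod p → ZMod m)
      · obtain ⟨i, rfl⟩ := hx
        rcases eq_or_ne i 0 with rfl | hi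
        · exact Or.inr (by rw [hVapply, hμ, mul_zero])
        · refine Or.inl ?_
          rw [Perm.mul_apply, Perm.inv_eq_iff_eq]
          show 1 + pt m i = V α₁ (pt m i)
          rw [hVapply]
          show 1 + pt m i = pt m (1 + i)
          rw [add_comm (1 : ZMod p), pt_succ hi, add_comm]
      · exact Or.inr (hVfix _ _ hx)
    have hcomm := hdisj.commute.eq
    have hσ : Equiv.addLeft (1 : ZMod m) * ρb * (Equiv.addLeft (1 : ZMod m))⁻¹ = ρa * ρb * ρa⁻¹ := by
      rw [mul_inv_eq_iff_eq_mul]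
      calc Equiv.addLeft (1 : ZMod m) * ρb = ρa * (ρa⁻¹ * Equiv.addLeft (1 : ZMod m) * ρb) := by group
        _ = ρa * (ρb * (ρa⁻¹ * Equiv.addLeft (1 : ZMod m))) := by rw [hcomm]
        _ = _ := by group
    have hBc := hlift ρb
    rw [hσ, map_mul, map_mul, map_mul, map_mul, map_inv, map_inv, mul_inv_eq_iff_eq_mul] at hBc
    rw [mul_assoc _ T, hBc]
    group
  have hx1 : A * X * A⁻¹ = ι (cyc (pt m (1 : ZMod p))) := by
    have := hxc 1
    rwa [xc, ZMod.val_one, pow_one] at this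
  have hd' : defect vb X T A = 1 := hd
  refine ⟨p, n, ⟨hp⟩, vb, w, A, ⟨hgen, hp2, hpm, he12, by omega, by omega, hwconj⟩, ?_, hd⟩
  refine ⟨?_, ?_, ?_, ?_, ?_, ?_, ?_, ?_⟩
  · rw [hA, ← map_pow, ← map_pow, ← map_pow, hαp, map_one, map_one, map_one]
  · rw [hB, hA, ← map_inv, ← map_mul, ← map_mul, ← map_inv, ← map_mul, ← map_mul, ← map_pow, ← map_pow]
    congr 2
    rw [← map_inv, ← map_mul, ← map_mul, ← map_pow]
    congr 1
    refine Equiv.ext fun i => ?_
    rw [hα, Perm.mul_apply, Perm.mul_apply, hμ]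
    show (n : ZMod p) * (1 + μ⁻¹ i) = _
    rw [mul_add, mul_one, ← hμ]
    simp
  · rw [hB, hX, ← map_inv, ← map_mul, ← map_mul, evenLift_conj, hVs, hμs, ← pt_zero (p := p), hVapply, hμ, mul_zero,
      Units.val_neg, Units.val_one, zpow_neg, zpow_one, map_inv]
  · rw [hx1, hX, ← map_mul, ← map_pow, ← map_pow, carm_cyc.pair _ _ ?_, carm_cyc.cube]
    rw [← pt_zero (p := p)]
    exact fun h => zero_ne_one (pt_injective hpm h)
  · rw [hd']; exact Commute.one_left _
  · rw [hd']; exact Commute.one_left _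
  · rw [hx1, show A⁻¹ * T * ι (cyc (pt m (1 : ZMod p))) * (A⁻¹ * T)⁻¹ =
      A⁻¹ * (T * ι (cyc (pt m (1 : ZMod p))) * T⁻¹) * A by group, hcyc,
      ← pt_succ one_ne_zero]
    have h2 : A * ι (cyc (pt m (1 : ZMod p))) * A⁻¹ = ι (cyc (pt m ((1 : ZMod p) + 1))) := by
      have h := evenLift_conj ρa (pt m (1 : ZMod p))
      rw [hVs, hαs, hVapply, Units.val_one, zpow_one] at h
      rw [hA, ← map_inv, ← map_mul, ← map_mul, h]
      rfl
    rw [← h2, conj_zpow]
    group
  · rw [hwin, hTe, hA, ← map_pow, ← map_inv, ← map_mul, ← map_pow evenLift, ← map_inv evenLift, ← map_mul evenLift]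

end target

end Cfsg.Agent.Lib.ThreeGenPres
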