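import Mathlib
import Cfsg.Agent.Lib.ThreeGenPres.Target
import Cfsg.Agent.Lib.ShortPres.Instances

/-!
Presentations on three generators with seven relators of alternating and symmetric groups.
-/

set_option autoImplicit false
set_option linter.style.haveILetI false

namespace Cfsg.Agent.Lib.ThreeGenPres

open Equiv Equiv.Perm Subgroup
open Cfsg.Agent.Lib.BoundedPresentation
open Cfsg.Agent.Lib.ShortPres (altT altT_cyc altT_lift alt_pair_gen symT symT_cyc symT_lift sym_pair_gen sym_card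
  sign_symT tau_evenLift)

variable {m : ℕ} [NeZero m]

theorem pres_three {H : Type} [Group H] [Finite H] (ι : Alt2 (ZMod m) →* H) (T : H) (f : ℤˣ) (e : ℕ) (hm : 3 ≤ m)
    (hcyc : ∀ i, T * ι (cyc i) * T⁻¹ = ι (cyc (i + 1)) ^ (f : ℤ))
    (hlift : ∀ π : Perm (ZMod m), T * ι (evenLift π) * T⁻¹ =
      ι (evenLift (Equiv.addLeft (1 : ZMod m) * π * (Equiv.addLeft (1 : ZMod m))⁻¹)))
    (he12 : e = 1 ∨ e = 2) (hTe : T ^ e = ι (evenLift (Equiv.addLeft (e : ZMod m))))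
    (hse : sign (Equiv.addLeft (e : ZMod m)) = f ^ e)
    (hs : closure (Set.range ![ι (cyc 0), T]) = ⊤)
    (hcard : e * Nat.card (Alt2 (ZMod m)) = Nat.card H) :
    ∃ R : Finset (FreeGroup (Fin 3)), R.card ≤ 7 ∧
      Nonempty (PresentedGroup (↑R : Set (FreeGroup (Fin 3))) ≃* H) := by
  obtain ⟨p, n, hp, vb, w, A, hg, hH, hd⟩ := exists_sys ι T f e hm hcyc hlift he12 hTe hse
  have hX : ι (cyc (0 : ZMod m)) ^ 3 = 1 := by rw [← map_pow, carm_cyc.cube, map_one]
  have hs3 : closure (Set.range ![ι (cyc 0), T, A]) = ⊤ := by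
    refine eq_top_iff.2 (hs ▸ (closure_le _).2 ?_)
    rintro _ ⟨k, rfl⟩
    fin_cases k
    exacts [subset_closure ⟨0, rfl⟩, subset_closure ⟨1, rfl⟩]
  exact (pres_of_sys hg hH hd hX hs3 hcard).exists_rels hs3

/-- The alternating group of degree at least five. -/
theorem pres_three_alt {n : ℕ} (hn : 5 ≤ n) : ∃ R : Finset (FreeGroup (Fin 3)), R.card ≤ 7 ∧
    Nonempty (PresentedGroup (↑R : Set (FreeGroup (Fin 3))) ≃* alternatingGroup (Fin n)) := by
  classical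
  obtain ⟨m, rfl⟩ : ∃ m, n = m + 2 := ⟨n - 2, by omega⟩
  haveI : NeZero m := ⟨by omega⟩
  obtain ⟨R, hR, ⟨E'⟩⟩ := pres_three (MonoidHom.id (Alt2 (ZMod m))) (altT m)
    (sign (Equiv.addLeft (1 : ZMod m))) 1 (by omega) altT_cyc altT_lift (Or.inl rfl)
    (by simp [altT]) (by simp) alt_pair_gen (one_mul _)
  let E : ZMod m ⊕ Fin 2 ≃ Fin (m + 2) := Fintype.equivOfCardEq (by simp [ZMod.card])
  exact ⟨R, hR, ⟨E'.trans E.altCongrHom⟩⟩

/-- The symmetric group of degree at least five. -/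
theorem pres_three_sym {n : ℕ} (hn : 5 ≤ n) : ∃ R : Finset (FreeGroup (Fin 3)), R.card ≤ 7 ∧
    Nonempty (PresentedGroup (↑R : Set (FreeGroup (Fin 3))) ≃* Perm (Fin n)) := by
  classical
  obtain ⟨m, rfl⟩ : ∃ m, n = m + 2 := ⟨n - 2, by omega⟩
  haveI : NeZero m := ⟨by omega⟩
  have hT2 : symT m ^ 2 = (Alt2 (ZMod m)).subtype (evenLift (Equiv.addLeft ((2 : ℕ) : ZMod m))) := by
    have h2 : Equiv.addLeft ((2 : ℕ) : ZMod m) = Equiv.addLeft (1 : ZMod m) * Equiv.addLeft (1 : ZMod m) := by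
      refine Equiv.ext fun x => ?_
      simp only [Perm.mul_apply, Equiv.coe_addLeft]
      push_cast; ring
    have hinv : (tau : Perm (ZMod m ⊕ Fin 2))⁻¹ = tau := swap_inv _ _
    have h1 := tau_evenLift (Equiv.addLeft (1 : ZMod m))
    rw [hinv] at h1
    rw [h2, map_mul, map_mul, pow_two, Subgroup.coe_subtype]
    unfold symT
    rw [← mul_assoc, h1]
  have hs2 : sign (Equiv.addLeft ((2 : ℕ) : ZMod m)) = (-sign (Equiv.addLeft (1 : ZMod m))) ^ 2 := by
    have h2 : Equiv.addLeft ((2 : ℕ) : ZMod m) = Equiv.addLeft (1 : ZMod m) * Equiv.addLeft (1 : ZMod m) := by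
      refine Equiv.ext fun x => ?_
      simp only [Perm.mul_apply, Equiv.coe_addLeft]
      push_cast; ring
    rw [h2, map_mul, Int.units_sq, Int.units_mul_self]
  obtain ⟨R, hR, ⟨E'⟩⟩ := pres_three (Alt2 (ZMod m)).subtype (symT m)
    (-sign (Equiv.addLeft (1 : ZMod m))) 2 (by omega) symT_cyc symT_lift (Or.inr rfl)
    hT2 hs2 sym_pair_gen sym_card
  let E : ZMod m ⊕ Fin 2 ≃ Fin (m + 2) := Fintype.equivOfCardEq (by simp [ZMod.card])
  exact ⟨R, hR, ⟨E'.trans E.permCongrHom⟩⟩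

end Cfsg.Agent.Lib.ThreeGenPres
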